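import Mathlib
import Cfsg.Agent.Lib.Th.Data

/-! Rows of the double coset table (generated) -/

set_option autoImplicit false
set_option maxRecDepth 100000
set_option Elab.async false

namespace CfsgLib.Th

open CfsgLib.Comput CfsgLib.FiTool CfsgLib.Amal

def row0 : RowC := ⟨[0, 1, 2, 3, 4, 5, 6], [(24, false)], 4⟩
theorem row0_ok : rowOK fs 386 (stepN WH) 819 0 1 (nth [] tabH 0) row0 = true := by decide +kernel
def row1 : RowC := ⟨[7, 8, 9, 10, 11, 12], [(24, true), (25, false), (45, false)], 2⟩
theorem row1_ok : rowOK fs 386 (stepN WC) 120 1 0 (nth [] tabC 0) row1 = true := by decide +kernel
def row2 : RowC := ⟨[26, 28, 29, 30, 31, 32, 33], [(25, true), (34, false), (56, false)], 3⟩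
theorem row2_ok : rowOK fs 386 (stepN WH) 819 2 1 (nth [] tabH 1) row2 = true := by decide +kernel
def row3 : RowC := ⟨[37, 42, 43, 44], [(34, true), (55, true), (63, false)], 3⟩
theorem row3_ok : rowOK fs 386 (stepN WC) 120 3 0 (nth [] tabC 1) row3 = true := by decide +kernel
def row4 : RowC := ⟨[46, 47, 48, 50, 52, 53], [(45, true), (55, false), (62, false), (75, false)], 3⟩
theorem row4_ok : rowOK fs 386 (stepN WH) 819 4 1 (nth [] tabH 2) row4 = true := by decide +kernel
def row5 : RowC := ⟨[57, 58, 59, 60], [(56, true), (62, true), (71, true), (72, true), (83, false), (96, false), (104, false), (111, false), (116, true), (117, false)], 2⟩
theorem row5_ok : rowOK fs 386 (stepN WC) 120 5 0 (nth [] tabC 2) row5 = true := by decide +kernel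
def row6 : RowC := ⟨[64, 65, 66, 67, 68, 69, 70, 73, 74], [(63, true), (71, false), (72, false), (123, false), (131, false), (133, false), (138, false), (143, false), (209, false)], 1⟩
theorem row6_ok : rowOK fs 386 (stepN WH) 819 6 1 (nth [] tabH 3) row6 = true := by decide +kernel
def row7 : RowC := ⟨[76, 77, 78, 79, 80, 81, 82], [(75, true), (89, true), (100, true), (108, true), (115, true), (119, true)], 1⟩
theorem row7_ok : rowOK fs 386 (stepN WC) 120 7 0 (nth [] tabC 3) row7 = true := by decide +kernel
def row8 : RowC := ⟨[84, 85, 87, 88, 90, 91, 92, 93, 94, 95], [(83, true), (89, false), (147, false), (271, true), (272, false), (285, false)], 1⟩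
theorem row8_ok : rowOK fs 386 (stepN WH) 819 8 1 (nth [] tabH 4) row8 = true := by decide +kernel
def row10 : RowC := ⟨[97, 101, 102, 103], [(96, true), (100, false), (207, false), (213, false), (228, false), (259, true), (276, false), (289, false), (311, false), (330, false)], 3⟩
theorem row10_ok : rowOK fs 386 (stepN WH) 819 10 1 (nth [] tabH 5) row10 = true := by decide +kernel
def row12 : RowC := ⟨[105, 107, 109, 110], [(104, true), (108, false), (150, false), (157, true), (163, false), (184, true), (191, true), (199, false), (212, false), (226, false), (244, false), (252, false), (256, false), (257, true), (278, false), (295, false), (310, false), (315, false), (319, false), (331, false)], 2⟩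
theorem row12_ok : rowOK fs 386 (stepN WH) 819 12 1 (nth [] tabH 6) row12 = true := by decide +kernel
def row14 : RowC := ⟨[112, 113, 114], [(111, true), (115, false), (116, false), (132, false), (136, false), (137, false), (141, false), (142, false), (145, false), (146, false), (151, false), (154, true), (155, true), (156, false), (158, true), (162, true), (164, true), (165, true), (166, true), (167, true), (168, false), (169, false), (170, true), (172, true), (173, true), (174, false), (175, false), (176, true), (177, true), (178, false), (179, true), (180, false), (181, true), (182, true), (183, true), (185, false), (187, false), (188, true), (189, false), (190, false), (192, true), (193, true), (194, false), (195, true), (196, false), (197, false), (198, true), (200, false), (201, true), (202, true), (203, true), (204, false), (205, false), (206, true), (208, false), (210, false), (211, false), (214, false), (215, false), (216, false), (217, false), (220, false), (221, false), (222, false), (223, false), (224, false), (225, false), (227, false), (229, false), (230, false), (231, false), (232, false), (233, false), (234, false), (235, false), (236, false), (237, false), (239, false), (240, false), (241, false), (242, false), (243, false), (245, false), (246, false), (247, false),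 (250, false), (251, false), (253, false), (254, false), (255, false), (258, false), (260, true), (261, true), (262, true), (263, true), (264, true), (265, false), (266, true), (267, true), (268, false), (269, true), (270, true), (279, false), (280, false), (282, false), (283, false), (284, false), (287, false), (288, false), (291, false), (292, false), (296, false), (297, false), (298, false), (299, false), (300, false), (301, false), (302, false), (303, false), (304, false), (306, false), (307, false), (308, false), (309, true), (312, false), (313, false), (314, false), (316, false), (318, false), (320, false), (321, false), (322, false), (323, false), (324, false), (325, false), (326, false), (329, false), (332, false), (333, false), (334, false), (335, false), (336, false), (337, false), (338, true), (339, false), (341, true), (342, true), (343, false), (345, false), (346, false)], 1⟩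
theorem row14_ok : rowOK fs 386 (stepN WH) 819 14 1 (nth [] tabH 7) row14 = true := by decide +kernel
def row16 : RowC := ⟨[118, 120, 121], [(117, true), (119, false), (144, false), (152, false), (159, true), (161, false), (186, true), (218, false), (238, false), (248, false), (249, false), (277, false), (290, false), (305, false), (340, false)], 3⟩
theorem row16_ok : rowOK fs 386 (stepN WH) 819 16 1 (nth [] tabH 8) row16 = true := by decide +kernel
def row9 : RowC := ⟨[124, 126, 127, 129, 130], [(123, true), (131, true), (132, true), (350, false), (376, false)], 2⟩
theorem row9_ok : rowOK fs 386 (stepN WC) 120 9 0 (nth [] tabC 4) row9 = true := by decide +kernel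
def row11 : RowC := ⟨[134, 135, 160], [(133, true), (136, true), (137, true), (157, false), (159, false), (165, false), (166, false), (167, false), (178, true), (180, true), (181, false), (182, false), (184, false), (186, false), (189, true), (194, true), (196, true), (198, false), (199, true), (200, true), (205, true), (207, true), (355, true), (360, false), (361, false), (364, false)], 1⟩
theorem row11_ok : rowOK fs 386 (stepN WC) 120 11 0 (nth [] tabC 5) row11 = true := by decide +kernel
def row13 : RowC := ⟨[139, 140, 171], [(138, true), (141, true), (142, true), (154, false), (155, false), (170, false), (172, false), (173, false), (179, false), (185, true), (190, true), (192, false), (193, false), (195, false), (197, true), (201, false), (202, false), (203, false), (206, false), (208, true), (357, true), (363, true), (369, true), (385, true)], 1⟩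
theorem row13_ok : rowOK fs 386 (stepN WC) 120 13 0 (nth [] tabC 6) row13 = true := by decide +kernel
def row15 : RowC := ⟨[148, 149, 153], [(143, true), (144, true), (145, true), (146, true), (147, true), (150, true), (151, true), (152, true), (156, true), (158, false), (161, true), (162, false), (163, true), (164, false), (168, true), (169, true), (174, true), (175, true), (176, false), (177, false), (183, false), (187, true), (188, false), (191, false), (204, true)], 1⟩
theorem row15_ok : rowOK fs 386 (stepN WC) 120 15 0 (nth [] tabC 7) row15 = true := by decide +kernel
def row17 : RowC := ⟨[219], [(209, true), (210, true), (211, true), (212, true), (213, true), (214, true), (215, true), (216, true), (217, true), (218, true), (220, true), (221, true), (222, true), (223, true), (224, true), (225, true), (226, true), (227, true), (228, true), (229, true), (230, true), (231, true), (232, true), (233, true), (234, true), (235, true), (236, true), (237, true), (238, true), (239, true), (240, true), (241, true), (242, true), (243, true), (244, true), (245, true), (246, true), (247, true), (248, true), (249, true), (250, true), (251, true), (252, true), (253, true), (254, true), (255, true), (256, true), (257, false), (258, true), (259, false), (260, false), (261, false), (262, false),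 (263, false), (264, false), (265, true), (266, false), (267, false), (268, true), (269, false), (270, false), (271, false), (370, true), (371, false)], 1⟩
theorem row17_ok : rowOK fs 386 (stepN WC) 120 17 0 (nth [] tabC 8) row17 = true := by decide +kernel
def row19 : RowC := ⟨[273, 275, 281], [(272, true), (276, true), (277, true), (278, true), (279, true), (280, true), (282, true), (283, true), (284, true), (374, true)], 2⟩
theorem row19_ok : rowOK fs 386 (stepN WC) 120 19 0 (nth [] tabC 9) row19 = true := by decide +kernel
def row21 : RowC := ⟨[286, 293, 294], [(285, true), (287, true), (288, true), (289, true), (290, true), (291, true), (292, true), (295, true), (296, true), (297, true), (298, true), (299, true), (300, true), (301, true), (302, true), (303, true), (304, true), (305, true), (306, true), (307, true), (308, true), (309, false), (310, true), (372, true), (373, true), (375, false)], 1⟩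
theorem row21_ok : rowOK fs 386 (stepN WC) 120 21 0 (nth [] tabC 10) row21 = true := by decide +kernel
def row23 : RowC := ⟨[317, 328], [(311, true), (312, true), (313, true), (314, true), (315, true), (316, true), (318, true), (319, true), (320, true), (321, true), (322, true), (323, true), (324, true), (325, true), (326, true), (329, true), (330, true), (331, true), (332, true), (333, true), (334, true), (335, true), (336, true), (337, true), (338, false), (339, true), (340, true), (341, false), (342, false), (362, true), (367, true), (368, true)], 1⟩
theorem row23_ok : rowOK fs 386 (stepN WC) 120 23 0 (nth [] tabC 11) row23 = true := by decide +kernel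
def row25 : RowC := ⟨[344, 347, 348, 349], [(343, true), (345, true), (346, true), (356, true), (365, true), (366, false), (383, true)], 2⟩
theorem row25_ok : rowOK fs 386 (stepN WC) 120 25 0 (nth [] tabC 12) row25 = true := by decide +kernel
def row18 : RowC := ⟨[351, 352, 353, 354, 358, 359], [(350, true), (355, false), (356, false), (357, false), (360, true), (361, true), (362, false), (363, false), (364, true), (365, false), (366, true), (367, false), (368, false), (369, false), (370, false), (371, true), (372, false), (373, false), (374, false), (375, true)], 2⟩
theorem row18_ok : rowOK fs 386 (stepN WH) 819 18 1 (nth [] tabH 9) row18 = true := by decide +kernel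
def row20 : RowC := ⟨[377, 378, 379, 380, 382, 384], [(376, true), (383, false), (385, false)], 3⟩
theorem row20_ok : rowOK fs 386 (stepN WH) 819 20 1 (nth [] tabH 10) row20 = true := by decide +kernel

end CfsgLib.Th
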