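import Mathlib
import Cfsg.Agent.Lib.Th.Main

/-!
# The presented Thompson group has one class of involutions
-/

set_option autoImplicit false
set_option maxRecDepth 100000

namespace CfsgLib.Th

open Cfsg.Spor CfsgLib.Comput CfsgLib.FiTool Equiv

theorem inv_A9 {σ : Perm (Fin 9)} (h : σ ∈ alternatingGroup (Fin 9)) (h2 : σ ^ 2 = 1) :
    ∃ π ∈ alternatingGroup (Fin 9), ∃ m ∈ [0, 2, 8], π * l9 m * π⁻¹ = σ := by
  have key : ∀ τ : Perm (Fin 9), τ ^ 2 = 1 → τ.support.card = τ.cycleType.card * 2 := fun τ hτ => by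
    rw [← Perm.sum_cycleType, Perm.cycleType_of_pow_prime_eq_one hτ, Multiset.sum_replicate, Multiset.card_replicate,
      smul_eq_mul]
  have h3 := key σ h2
  have h4 : σ.support.card ≤ 9 := (Finset.card_le_univ _).trans_eq (Fintype.card_fin 9)
  rw [Perm.mem_alternatingGroup, Perm.sign_of_cycleType, Perm.sum_cycleType, neg_one_pow_eq_one_iff_even (by decide),
    Nat.even_iff] at h
  obtain ⟨m, hm, h5, h6, h7⟩ : ∃ m ∈ [0, 2, 8], l9 m ^ 2 = 1 ∧ (l9 m).support.card = σ.support.card ∧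
      swap 0 1 * l9 m * (swap 0 1)⁻¹ = l9 m := by
    obtain e | e | e : σ.support.card = 0 ∨ σ.support.card = 8 ∨ σ.support.card = 4 := by omega
    all_goals rw [e]; decide
  obtain ⟨π, rfl⟩ := isConj_iff.1 (Perm.isConj_iff_cycleType_eq.2 (show (l9 m).cycleType = σ.cycleType by
    rw [Perm.cycleType_of_pow_prime_eq_one h5, Perm.cycleType_of_pow_prime_eq_one h2,
      show (l9 m).cycleType.card = σ.cycleType.card by have := key _ h5; omega]))
  rcases Int.units_eq_one_or (Perm.sign π) with e | e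
  · exact ⟨π, e, m, hm, rfl⟩
  · refine ⟨π * swap 0 1, by simp [Perm.mem_alternatingGroup, e], m, hm, ?_⟩
    conv_rhs => rw [← h7]
    group

/-- the elements of a coset of the extraspecial group are not involutions or conjugate to a given one -/
noncomputable def cosOK (n w v : ℕ) (hs : List ℕ) : Bool := allLt (fun j => bor (blt j n) (bor
  (NX (sel qs j ++ [w] ++ (sel qs j ++ [w])) []) (EX ([nth 0 hs j, v], sel qs j ++ [w] ++ [nth 0 hs j])))) 512

theorem cosOK_sound {n w v : ℕ} {hs : List ℕ} (h : cosOK n w v hs = true) {j : ℕ} (hj : j < 512) (hn : n ≤ j)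
    (h2 : evL lx (sel qs j) * ev lx w * (evL lx (sel qs j) * ev lx w) = 1) :
    IsConj (ev lx v) (evL lx (sel qs j) * ev lx w) := by
  rcases bor_eq_true.1 (allLt_sound h j hj) with h | h
  · exact absurd (lt_of_blt h) (not_lt.2 hn)
  rcases bor_eq_true.1 h with h | h
  · exact absurd (by simpa only [evL_append, evL_one, evL_nil] using h2) (NX_sound h)
  · exact isConj_iff.2 ⟨_, mul_inv_eq_iff_eq_mul.2 (by simpa only [Eqn.Holds, evL_append, evL_one, evL_two] using EX_holds h)⟩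

/-- conjugating words -/
def hQ : List ℕ := [0, 0, 0, 0xb, 0x3, 0xc03, 0, 0, 0x403, 0xb0403, 0, 0, 0, 0, 0, 0, 0x50403, 0xb050403, 0, 0, 0, 0, 0, 0, 0, 0, 0,
  0, 0, 0, 0x6030a05050403, 0x6030905050403, 0x60403, 0xb060403, 0, 0, 0, 0, 0, 0, 0, 0, 0, 0, 0, 0, 0x50905050403,
  0x50a05050403, 0, 0, 0, 0, 0, 0, 0x704060903, 0x704060a03, 0, 0, 0x60904050403, 0x60a04050403, 0x5030a04050403,
  0x5030904050403, 0x609030907060403, 0x609030a07060403, 0x4050403, 0xb04050403, 0, 0, 0, 0, 0, 0, 0, 0, 0, 0, 0,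
  0, 0x50509050403, 0x5050a050403, 0, 0, 0, 0, 0, 0, 0x8050a050403, 0x80509050403, 0, 0, 0x505090403, 0x5050a0403,
  0x505030903, 0x505030a03, 0x60906030903, 0x50504030903, 0, 0, 0, 0, 0, 0, 0x905050403, 0xa05050403, 0, 0,
  0x40604060a03, 0x40604060903, 0x30904050403, 0x30a04050403, 0x5040503090403, 0x50405030a0403, 0, 0, 0x7050903,
  0x7050a03, 0x70503090403, 0x90503090403, 0x30906030a03, 0x30906030903, 0x905030a060403, 0x9050309060403,
  0x705030a060403, 0x7050309060403, 0x504050a03, 0x504050903, 0, 0, 0x5050403, 0xb05050403, 0, 0, 0, 0, 0, 0, 0, 0,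
  0, 0, 0, 0, 0x50704060a03, 0x50704060903, 0, 0, 0, 0, 0, 0, 0x30a05050403, 0x30905050403, 0, 0, 0x904050403,
  0xa04050403, 0x4030a060403, 0x40309060403, 0x9030907060403, 0x9030a07060403, 0, 0, 0, 0, 0, 0, 0x90504050903,
  0xa0504050903, 0, 0, 0x6060903, 0x6060a03, 0x60603090403, 0x606030a0403, 0x6060403090403, 0x60604030a0403, 0, 0,
  0x7060a0403, 0x706090403, 0x706030a03, 0x706030903, 0x906030a03, 0x906030903, 0x6040503090403, 0x60405030a0403,
  0x60304050903, 0x60304050a03, 0x70609060403, 0x7060a060403, 0, 0, 0, 0, 0, 0, 0, 0, 0x4060a03, 0x4060903, 0, 0,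
  0x6060a060403, 0x60609060403, 0x40603090403, 0x406030a0403, 0x4060403090403, 0x40604030a0403, 0, 0,
  0x50907060403, 0x50a07060403, 0x805030a060403, 0x8050309060403, 0x406030a060403, 0x4060309060403,
  0x50504030a0403, 0x5050403090403, 0x505030a0403, 0x50503090403, 0x5050903, 0x5050a03, 0, 0, 0, 0, 0x80609060403,
  0x8060a060403, 0x6030a07060403, 0x6030907060403, 0x406030a07060403, 0x406030907060403, 0x60604030903,
  0x90606030903, 0x606030a03, 0x606030903, 0x606090403, 0x6060a0403, 0, 0, 0x804060403090403, 0x509040503090403,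
  0x8040603090403, 0x80406030a0403, 0x60704050903, 0x60704050a03, 0, 0, 0x804060a03, 0x804060903, 0, 0, 0, 0, 0, 0,
  0x7050403, 0xb07050403, 0, 0, 0, 0, 0, 0, 0, 0, 0, 0, 0, 0, 0x50a07050403, 0x50907050403, 0, 0, 0, 0, 0, 0,
  0x604060903, 0x604060a03, 0, 0, 0xa07060403, 0x907060403, 0x4030904050403, 0x4030a04050403, 0x9030a04050403,
  0x9030904050403, 0, 0, 0, 0, 0, 0, 0x509050403, 0x50a050403, 0, 0, 0x50a0403, 0x5090403, 0x5030a03, 0x5030903,
  0x504030903, 0x509030903, 0, 0, 0x80504050a03, 0x80504050903, 0x50309060403, 0x5030a060403, 0x405040309060403,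
  0x503090309060403, 0x50403090403, 0x504030a0403, 0x503090403, 0x5030a0403, 0x50a03, 0x50903, 0, 0, 0, 0, 0, 0, 0,
  0, 0x60905050403, 0x60a05050403, 0, 0, 0x7060903, 0x7060a03, 0x70603090403, 0x706030a0403, 0x7060403090403,
  0x70604030a0403, 0, 0, 0x704050903, 0x704050a03, 0x806030a060403, 0x8060309060403, 0x90504030a060403,
  0x905040309060403, 0x7040503090403, 0x9040503090403, 0x70304050903, 0x90304050903, 0x80509060403, 0x8050a060403,
  0, 0, 0, 0, 0x7050a060403, 0x70509060403, 0x304050903, 0x304050a03, 0x40503090403, 0x405030a0403,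
  0x4050309060403, 0x405030a060403, 0x5040309060403, 0x504030a060403, 0x4050903, 0x4050a03, 0, 0, 0x50906030903,
  0x70504030903, 0x705030903, 0x705030a03, 0x7050a0403, 0x705090403, 0, 0, 0x7050a050403, 0x70509050403, 0, 0, 0,
  0, 0, 0, 0, 0, 0, 0, 0, 0, 0x30a050403, 0x309050403, 0, 0, 0x9060403, 0xa060403, 0x4030a07060403,
  0x4030907060403, 0x90309060403, 0x9030a060403, 0, 0, 0xa03, 0x903, 0x30a0403, 0x3090403, 0x4030a0403,
  0x403090403, 0x9030903, 0x4030903, 0x30903, 0x30a03, 0xa0403, 0x90403, 0, 0, 0, 0, 0x804050903, 0x804050a03,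
  0x6030a060403, 0x60309060403, 0x906030a060403, 0x9060309060403, 0x509030a060403, 0x5090309060403, 0x80304050903,
  0x80304050a03, 0x509060403, 0x50a060403, 0, 0, 0x3090309060403, 0x309030a060403, 0x30a060403, 0x309060403,
  0x50804050a03, 0x50804050903, 0, 0, 0xa050403, 0x9050403, 0, 0, 0, 0, 0, 0, 0, 0, 0x6090403, 0x60a0403,
  0x6030903, 0x6030a03, 0x609030903, 0x604030903, 0x6090309060403, 0x609030a060403, 0x50406030a0403,
  0x5040603090403, 0x60a060403, 0x609060403, 0, 0, 0x9040309060403, 0x904030a060403, 0x30a07060403, 0x30907060403,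
  0x4030a050403, 0x40309050403, 0, 0, 0xa07050403, 0x907050403, 0, 0, 0, 0, 0, 0, 0x60403090403, 0x604030a0403,
  0x603090403, 0x6030a0403, 0x60a03, 0x60903, 0, 0, 0x60309050403, 0x6030a050403, 0, 0, 0, 0, 0, 0, 0x60604060903,
  0x90604060903, 0, 0, 0, 0, 0, 0, 0, 0, 0, 0, 0, 0, 0xb07060403, 0x7060403]

/-- conjugating words -/
def hD : List ℕ := [0, 0xf10, 0, 0, 0, 0, 0x2, 0xb, 0xb0e1011, 0x20e1011, 0, 0, 0, 0, 0xe1011, 0xd1011, 0, 0, 0, 0, 0, 0, 0, 0, 0, 0,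
  0, 0, 0, 0, 0, 0, 0, 0, 0, 0, 0, 0, 0, 0, 0, 0, 0, 0, 0, 0, 0, 0, 0xd, 0xe, 0, 0, 0, 0, 0xb0e, 0x20e, 0xb1011,
  0x21011, 0, 0, 0, 0, 0x1011, 0xf11, 0, 0, 0, 0, 0, 0, 0, 0, 0, 0, 0, 0, 0, 0, 0, 0, 0, 0, 0, 0, 0, 0, 0, 0, 0, 0,
  0, 0, 0, 0, 0, 0, 0, 0, 0, 0, 0, 0, 0, 0, 0, 0, 0, 0, 0, 0, 0, 0, 0, 0, 0, 0, 0, 0, 0, 0, 0, 0, 0, 0, 0, 0, 0, 0,
  0, 0, 0, 0, 0, 0, 0, 0, 0, 0, 0, 0, 0, 0, 0, 0, 0, 0, 0, 0, 0, 0, 0, 0, 0, 0, 0, 0, 0, 0, 0, 0, 0, 0, 0, 0, 0, 0,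
  0, 0, 0, 0, 0, 0, 0, 0, 0, 0, 0, 0, 0, 0, 0, 0, 0, 0, 0, 0, 0, 0, 0, 0, 0, 0, 0xf, 0x10, 0, 0, 0, 0, 0xb10,
  0x210, 0xb0e11, 0x20e11, 0, 0, 0, 0, 0xe11, 0xd11, 0, 0, 0, 0, 0, 0, 0, 0, 0, 0, 0, 0, 0, 0, 0, 0, 0, 0, 0, 0, 0,
  0, 0, 0, 0, 0, 0, 0, 0, 0, 0, 0, 0xe10, 0xd10, 0, 0, 0, 0, 0x20e10, 0xb0e10, 0xb11, 0x211, 0, 0, 0, 0, 0x11,
  0xf1011]

/-- the involutions of the centraliser of `a` -/
theorem inv_PC {x : PC} (h : x * x = 1) : x = 1 ∨ x = q 0 ∨ IsConj (q 2) x ∨ IsConj (q 3) x := by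
  obtain ⟨π, hπ, m, hm, e⟩ := inv_A9 (ψ_range.le ⟨x, rfl⟩) (by rw [← map_pow, pow_two, h, map_one])
  obtain ⟨y, rfl⟩ := ψ_range.ge hπ
  obtain ⟨x, rfl⟩ := (MulAut.conj y).surjective x
  rw [← map_mul, MulEquiv.map_eq_one_iff] at h
  have h0 : ∀ {z}, IsConj z x → IsConj z (MulAut.conj y x) := fun hz => hz.trans (isConj_iff.2 ⟨y, rfl⟩)
  have h1 : ∀ w, ψ (ev lx w) = l9 m → ∃ j < 512, x = evL lx (sel qs j) * ev lx w := fun w hw => by
    obtain ⟨j, hj, e⟩ := exists_el (x := x * (ev lx w)⁻¹) (by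
      rw [MonoidHom.mem_ker, map_mul, map_inv, hw, mul_inv_eq_one]
      simpa using e.symm)
    exact ⟨j, hj, by rw [← e, inv_mul_cancel_right]⟩
  simp only [List.mem_cons, List.not_mem_nil, or_false] at hm
  rcases hm with rfl | rfl | rfl
  · obtain ⟨j, hj, rfl⟩ := h1 0 (map_one ψ)
    by_cases hn : 2 ≤ j
    · exact .inr (.inr (.inl (h0 ((show ev lx 2 = q 2 from ev_lx (m := 1) (by norm_num)) ▸ cosOK_sound (hs := hQ)
        (by decide +kernel) hj hn h))))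
    · have : j < 2 := by omega
      interval_cases j
      · exact .inl (by rw [ev_zero, mul_one]; exact map_one _)
      · refine .inr (.inl ?_)
        rw [ev_zero, mul_one, show sel qs 1 = [1] from rfl, evL_one, ev_a, MulAut.conj_apply, a_comm,
          mul_inv_cancel_right]
  · obtain ⟨j, hj, rfl⟩ := h1 3 (by rw [ev_lx (m := 2) (by norm_num), ψ_lt])
    exact .inr (.inr (.inr (h0 ((show ev lx 3 = q 3 from ev_lx (m := 2) (by norm_num)) ▸ cosOK_sound (hs := hD)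
      (by decide +kernel) hj j.zero_le h))))
  · obtain ⟨j, hj, rfl⟩ := h1 9 (by rw [ev_lx (m := 8) (by norm_num), ψ_lt])
    exact absurd (by simpa only [evL_append, evL_one, evL_nil] using h) (NX_sound (allLt_sound (p := fun j => NX
      (sel qs j ++ [9] ++ (sel qs j ++ [9])) []) (by decide +kernel) j hj))

theorem index_C : πC.range.index = 976841775 := by
  have := πC.range.card_mul_index
  rw [← Nat.card_congr (MonoidHom.ofInjective πC_inj).toEquiv, card_PC, card_Th] at this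
  omega

theorem conj_d : IsConj (g 0) (g 3) := (isConj_iff.2 ⟨_, V1_conj⟩).trans (isConj_iff.2 ⟨_, (conj_g
  (x := [8, 4, 6, 2, 4, 6, 8, 6, 4, 6, 2, 4, 6, 0]) (v := [2 * 3]) (by decide +kernel)).trans (CosetEnum.ev_single g 3)⟩)

/-- all involutions are conjugate -/
theorem isConj_ga {i : Th} (h : orderOf i = 2) : IsConj (g 0) i := by
  have h1 : IsPGroup 2 (Subgroup.zpowers i) := .of_card (n := 1) (by rw [Nat.card_zpowers, h]; rfl)
  obtain ⟨y, hy⟩ := h1.nonempty_fixed_point_of_prime_not_dvd_card (Th ⧸ πC.range) (by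
    rw [← Subgroup.index, index_C]; norm_num)
  obtain ⟨y, rfl⟩ := QuotientGroup.mk_surjective y
  obtain ⟨x, hx⟩ := QuotientGroup.eq.1 (hy ⟨i, Subgroup.mem_zpowers i⟩).symm
  have h2 : y * πC x * y⁻¹ = i := by rw [hx]; simp
  have h3 : πC x * πC x = 1 := by
    rw [← pow_two, ← conj_eq_one_iff (a := y), ← conj_pow, h2, ← h, pow_orderOf_eq_one]
  refine IsConj.trans ?_ (isConj_iff.2 ⟨y, h2⟩)
  rcases inv_PC (πC_inj (by rw [map_mul, h3, map_one])) with rfl | rfl | e | e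
  · rw [← h2] at h; simp at h
  · rw [πC_a]
  · exact (isConj_iff.2 ⟨_, conj_c⟩).trans (πC_q (i := 2) (by norm_num) (by norm_num) ▸ πC.map_isConj e)
  · exact conj_d.trans (πC_q (i := 3) (by norm_num) (by norm_num) ▸ πC.map_isConj e)

end CfsgLib.Th
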